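import Groth.Agent.Lefpen.H608.NotFinite
import Groth.Agent.VarietyA.AmpleField
import Groth.Agent.Sga5.AmpleFib
import Groth.Agent.Sga67.TwistProj
import Groth.Agent.CohqB.AmpGeneric
import Groth.Agent.S2336
import Groth.Agent.S2327

/-!
# `O_V(e)` is trivial only for `e = 0`

* `isFinite_of_twist_trivial`: a closed subscheme `i : X → P^N_k` with `i^* O(e) ≅ O_X` for some `e ≠ 0`
  is finite over `k`.
* `eq_zero_of_twist_trivial`: for `Y = V(G_1, …, G_d) ⊆ P^N_k`, all degrees positive, `d < N`, an isomorphism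
  `O_Y(e) ≅ O_Y` forces `e = 0`.
-/

set_option autoImplicit false
universe u

open CategoryTheory AlgebraicGeometry Limits TopologicalSpace Opposite

namespace Groth.Agent.Lefpen.H608.TwistTriv

open LefPen

theorem isFinite_of_isAmple_structureModule {X S : Scheme.{u}} [IsAffine S] (f : X ⟶ S) [IsProper f]
    (h : CohB1.IsAmple (Coh.structureModule X)) : IsFinite f := by
  have h1 : CompactSpace X := h.2.1
  have h2 : X.IsSeparated := by
    constructor
    have h6 : IsSeparated (f ≫ terminal.from S) := inferInstance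
    rwa [Subsingleton.elim (terminal.from X) (f ≫ terminal.from S)]
  have h3 : X.IsQuasiAffine := (Groth.Agent.S2336.result X).mpr h
  exact Groth.Agent.Sga5.AmpleFib.isFinite_of_isQuasiAffine f

variable {k : Type u} [Field k] {N : ℕ} {X : Scheme.{u}} (i : X ⟶ CohB1.ProjSpace N k)

/-- The restriction of `O(e)` to a scheme over `P^N_k`. -/
noncomputable abbrev tw (e : ℤ) : X.Modules :=
  (Scheme.Modules.pullback i).obj (Twist.twistProjSpace N k e)

theorem isInvertible_tw (e : ℤ) : PicF.IsInvertible (tw i e) :=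
  Groth.Agent.Fdesc.LocGen.isInvertible_pullback _ (Groth.Agent.Ega3B.ProjFrame.isInvertible_twistProjSpace N k e)

theorem nonempty_tw_mul (e f : ℤ) : Nonempty (CohB1.tensorMod (tw i e) (tw i f) ≅ tw i (e + f)) := by
  obtain ⟨φ⟩ := Groth.Agent.Sga67.TwistProj.nonempty_mul N k e f
  exact ⟨(Groth.Agent.Ega3B.PullTensor.pullTensorIso i
    (Groth.Agent.Ega3B.ProjFrame.isInvertible_twistProjSpace N k e)
    (Groth.Agent.Ega3B.ProjFrame.isInvertible_twistProjSpace N k f)).symm ≪≫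
      (Scheme.Modules.pullback i).mapIso φ⟩

theorem nonempty_tw_zero : Nonempty (tw i 0 ≅ Coh.structureModule X) := by
  obtain ⟨φ⟩ := Groth.Agent.Ega2.TwistInv.nonempty_unit_iso (CohB1.polyGrading N k)
  obtain ⟨ψ⟩ := Groth.Agent.Ega3B.PullTensor.nonempty_pullUnitIso i
  exact ⟨(Scheme.Modules.pullback i).mapIso φ.symm ≪≫ ψ⟩

theorem nonempty_tw_pow (n : ℕ) : Nonempty (tw i (n : ℤ) ≅ CohB1.tensorPow (tw i 1) n) := by
  obtain ⟨φ⟩ := Groth.Agent.Ega3B.ProjFrame.nonempty_twistProjSpace_iso N k n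
  obtain ⟨ψ⟩ := Groth.Agent.Ega3B.PullTensor.nonempty_pullPowIso i
    (Groth.Agent.Ega3B.ProjFrame.isInvertible_twistProjSpace N k 1) n
  exact ⟨(Scheme.Modules.pullback i).mapIso φ ≪≫ ψ⟩

/-- If `O_X(e)` is trivial so is `O_X(-e)`. -/
theorem nonempty_tw_neg (e : ℤ) (h : Nonempty (tw i e ≅ Coh.structureModule X)) :
    Nonempty (tw i (-e) ≅ Coh.structureModule X) := by
  obtain ⟨φ⟩ := h
  obtain ⟨ψ⟩ := nonempty_tw_mul i (-e) e
  obtain ⟨χ⟩ := nonempty_tw_zero i
  rw [neg_add_cancel] at ψ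
  exact ⟨(Groth.Agent.Ega2.Tens.runit (tw i (-e))).symm ≪≫
    Groth.Agent.Ega2.Tens.mapTIso (Iso.refl _) φ.symm ≪≫ ψ ≪≫ χ⟩

theorem isAmple_tw_one [IsAffineHom i] : CohB1.IsAmple (tw i 1) :=
  Groth.Agent.CohqB.AmpCocycle.isAmple_pullback i
    (Groth.Agent.VarietyA.AmpleField.isAmple_twistProjSpace N k)

/-- A closed subscheme `X` of `P^N_k` with `O_X(e) ≅ O_X` for some `e ≠ 0` is finite over `k`. -/
theorem isFinite_of_twist_trivial [IsClosedImmersion i] (e : ℤ) (he : e ≠ 0)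
    (h : Nonempty (tw i e ≅ Coh.structureModule X)) : IsFinite (i ≫ CohB1.ProjSpace.toSpec N k) := by
  have h1 : CompactSpace X := QuasiCompact.compactSpace_of_compactSpace (i ≫ CohB1.ProjSpace.toSpec N k)
  have h2 : X.IsSeparated := by
    constructor
    have h6 : IsSeparated ((i ≫ CohB1.ProjSpace.toSpec N k) ≫ terminal.from _) := inferInstance
    rwa [Subsingleton.elim (terminal.from X) ((i ≫ CohB1.ProjSpace.toSpec N k) ≫ terminal.from _)]
  obtain ⟨n, hn, ⟨φ⟩⟩ : ∃ n : ℕ, 0 < n ∧ Nonempty (tw i (n : ℤ) ≅ Coh.structureModule X) := by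
    obtain ⟨n, rfl | rfl⟩ := e.eq_nat_or_neg
    · exact ⟨n, by omega, h⟩
    · have := nonempty_tw_neg i _ h
      rw [neg_neg] at this
      exact ⟨n, by omega, this⟩
  obtain ⟨ψ⟩ := nonempty_tw_pow i n
  have h3 : CohB1.IsAmple (CohB1.tensorPow (tw i 1) n) :=
    (Groth.Agent.S2327.result X (tw i 1) (isInvertible_tw i 1) n hn).mp (isAmple_tw_one i)
  have h4 : CohB1.IsAmple (Coh.structureModule X) :=
    Groth.Agent.CohqB.AmpCocycle.isAmple_of_iso (ψ.symm ≪≫ φ) h3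
  exact isFinite_of_isAmple_structureModule _ h4

/-- For `Y = V(G_1, …, G_d) ⊆ P^N_k` with `d < N` and positive degrees, `O_Y(e) ≅ O_Y` implies `e = 0`. -/
theorem eq_zero_of_twist_trivial {d : ℕ} {a : Fin d → ℕ} (G : ∀ j : Fin d, Form N k (a j)) (hd : d < N)
    (ha : ∀ j, 0 < a j) (e : ℤ)
    (h : Nonempty ((Scheme.Modules.pullback (ciIdeal G).subschemeι).obj (Twist.twistProjSpace N k e) ≅
      Coh.structureModule (ciIdeal G).subscheme)) : e = 0 := by
  by_contra he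
  exact NotFinite.not_isFinite G hd ha (isFinite_of_twist_trivial (ciIdeal G).subschemeι e he h)

/-- Two twists `O_Y(e)`, `O_Y(e')` are isomorphic only for `e = e'`. -/
theorem eq_of_nonempty_iso {d : ℕ} {a : Fin d → ℕ} (G : ∀ j : Fin d, Form N k (a j)) (hd : d < N)
    (ha : ∀ j, 0 < a j) (e e' : ℤ)
    (h : Nonempty (tw (ciIdeal G).subschemeι e ≅ tw (ciIdeal G).subschemeι e')) : e = e' := by
  obtain ⟨φ⟩ := h
  obtain ⟨ψ⟩ := nonempty_tw_mul (ciIdeal G).subschemeι e (-e')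
  obtain ⟨ψ'⟩ := nonempty_tw_mul (ciIdeal G).subschemeι e' (-e')
  obtain ⟨χ⟩ := nonempty_tw_zero (ciIdeal G).subschemeι
  rw [add_neg_cancel] at ψ'
  have := eq_zero_of_twist_trivial G hd ha (e + -e')
    ⟨ψ.symm ≪≫ Groth.Agent.Ega2.Tens.mapTIso φ (Iso.refl _) ≪≫ ψ' ≪≫ χ⟩
  omega

end Groth.Agent.Lefpen.H608.TwistTriv
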