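import Groth.Agent.Lefpen.H728.OcCoh
import Groth.Agent.Lefpen.H278.OmSys
import Groth.Agent.Lefpen.H718.JacCI
import Groth.Agent.PerfA.QCohSerre

/-!
# Cohomology of the structure sheaf of a complete intersection

`Y = V(G_1, …, G_d) ⊆ P^N_k` with `d ≤ ht (G_1, …, G_d)`:

* `nonempty_equiv_Oc`: `H^p` of the Čech system `Oc 0` is `H^p(Y, O_Y)`.
* `subsingleton_HH`: `H^i(Y, O_Y) = 0` for `0 < i`, `i + d < N`.
-/

set_option autoImplicit false
universe u

open CategoryTheory CategoryTheory.Limits AlgebraicGeometry TopologicalSpace Opposite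

namespace Groth.Agent.Lefpen.H608.CIH1

open LefPen Groth.Agent.Lefpen.H722.Sys Groth.Agent.Lefpen.H721.OmegaPow Groth.Agent.Lefpen.H721.OmegaSec
open Groth.Agent.Lefpen.H278.SecSys Groth.Agent.Lefpen.H278.SecRing Groth.Agent.Lefpen.H278.RingIso
open Groth.Agent.Lefpen.H718.Chart Groth.Agent.Lefpen.H278.SysFam Groth.Agent.Lefpen.H278.LaurSec
open Groth.Agent.Lefpen.H728.OcSys Groth.Agent.Lefpen.H728.LauSys Groth.Agent.CohqA.LaurentLoc
open Groth.Agent.CohqA.LaurentCech

section SA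

variable {k : Type u} [Field k] {X : Scheme.{u}} (f : X ⟶ Spec (CommRingCat.of k)) [X.Over (Spec (CommRingCat.of k))]

/-- Functions as sections of the structure sheaf, `k`-linearly. -/
noncomputable def saSec (hover : X ↘ Spec (CommRingCat.of k) = f) (W : X.Opens) :
    SA f W ≃ₗ[k] Sec k (Coh.structureModule X) W :=
  { (AddEquiv.refl Γ(X, W) : SA f W ≃+ Sec k (Coh.structureModule X) W) with
    map_smul' := fun c x => by
      subst hover
      rw [Algebra.smul_def]
      rfl }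

theorem saSec_res (hover : X ↘ Spec (CommRingCat.of k) = f) {V W : X.Opens} (h : W ≤ V) (x : SA f V) :
    saSec f hover W (resA f h x) = resK k (Coh.structureModule X) h (saSec f hover V x) := rfl

end SA

variable {N d : ℕ} {k : Type u} [Field k] {a : Fin d → ℕ} (G : ∀ j : Fin d, Form N k (a j))

/-- Degree zero Laurent polynomials. -/
noncomputable def toL0 (I : Set (Fin (N + 1))) : (lau k (Fin (N + 1)) 0).M I →ₗ[k] L0 N k I where
  toFun x := ⟨toR x, toR_mem x⟩
  map_add' x y := Subtype.ext (map_add toR x y)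
  map_smul' c x := Subtype.ext (map_smul toR c x)

theorem toL0_surjective (I : Set (Fin (N + 1))) : Function.Surjective (toL0 (N := N) (k := k) I) := by
  intro x
  exact ⟨ofR x.1 x.2, Subtype.ext (toR_ofR x.1 x.2)⟩

/-- The functions on `Y ∩ D_+(T_I)` given by Laurent polynomials of degree zero. -/
noncomputable def lauToSA {I : Set (Fin (N + 1))} (hI : I.Nonempty) :
    (lau k (Fin (N + 1)) 0).M I →ₗ[k] SA (yStr G) (UI (ychart G) I) :=
  (toSec G hI).toLinearMap ∘ₗ toL0 I

theorem lauToSA_surjective {I : Set (Fin (N + 1))} (hI : I.Nonempty) :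
    Function.Surjective (lauToSA G hI) :=
  (toSec_surjective G hI).comp (toL0_surjective I)

theorem ker_lauToSA {I : Set (Fin (N + 1))} (hI : I.Nonempty) :
    LinearMap.ker (lauToSA G hI) = (SJ (Gp G) a d 0).P I := by
  ext x
  rw [LinearMap.mem_ker]
  refine (toSec_eq_zero_iff G hI (toL0 I x)).trans ?_
  change _ ↔ x ∈ J (Gp G) a d 0 I
  rw [mem_J]
  have hf : Finset.univ.filter (fun j : Fin d => j.val < d) = Finset.univ := by
    ext j; simp
  rw [hf]
  constructor
  · rintro ⟨h, h1, h2⟩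
    exact ⟨h, fun j => by rw [zero_sub]; exact h1 j, h2⟩
  · rintro ⟨h, h1, h2⟩
    exact ⟨h, fun j => by rw [← zero_sub]; exact h1 j, h2⟩

/-- Functions on `Y ∩ D_+(T_I)` as classes of Laurent polynomials. -/
noncomputable def ocEquiv {I : Set (Fin (N + 1))} (hI : I.Nonempty) :
    (Oc (Gp G) a d 0).M I ≃ₗ[k] SA (yStr G) (UI (ychart G) I) :=
  (Submodule.quotEquivOfEq _ _ (ker_lauToSA G hI).symm).trans
    ((lauToSA G hI).quotKerEquivOfSurjective (lauToSA_surjective G hI))

theorem ocEquiv_cls {I : Set (Fin (N + 1))} (hI : I.Nonempty) (x : (lau k (Fin (N + 1)) 0).M I) :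
    ocEquiv G hI ((SJ (Gp G) a d 0).cls x) = lauToSA G hI x := rfl

theorem ocEquiv_res {I J : Set (Fin (N + 1))} (hI : I.Nonempty) (h : I ⊆ J) (x : (Oc (Gp G) a d 0).M I) :
    ocEquiv G (hI.mono h) ((Oc (Gp G) a d 0).res h x) =
      resA (yStr G) (UI_anti (ychart G) h) (ocEquiv G hI x) := by
  obtain ⟨x, rfl⟩ := (SJ (Gp G) a d 0).cls_surjective x
  have h1 : (Oc (Gp G) a d 0).res h ((SJ (Gp G) a d 0).cls x) = (SJ (Gp G) a d 0).cls ((lau k (Fin (N + 1)) 0).res h x) :=
    (SJ (Gp G) a d 0).res_cls h x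
  rw [h1, ocEquiv_cls, ocEquiv_cls]
  change toSec G (hI.mono h) (toL0 J ((lau k (Fin (N + 1)) 0).res h x)) =
    resA (yStr G) (UI_anti (ychart G) h) (toSec G hI (toL0 I x))
  rw [resA_toSec G hI h]
  rfl

/-- The cohomology of `O_Y` as cohomology of the Čech system of Laurent polynomials. -/
theorem nonempty_equiv_Oc [(Y G).Over (Spec (CommRingCat.of k))]
    (hover : (Y G) ↘ Spec (CommRingCat.of k) = yStr G) (p : ℕ) :
    Nonempty (H (Oc (Gp G) a d 0) p ≃ₗ[k] Coh.HH (Y G) (Coh.structureModule (Y G)) p) := by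
  obtain ⟨e⟩ := nonempty_equiv_of_family (V := Oc (Gp G) a d 0)
    (W := secSys k (ychart G) (Coh.structureModule (Y G)))
    (fun I hI => (ocEquiv G hI).trans (saSec (yStr G) hover (UI (ychart G) I)))
    (fun I J hI h x => by
      rw [LinearEquiv.trans_apply, LinearEquiv.trans_apply, ocEquiv_res G hI h x]
      exact saSec_res (yStr G) hover (UI_anti (ychart G) h) (ocEquiv G hI x)) p
  obtain ⟨e'⟩ := Groth.Agent.Lefpen.H278.SecSys.nonempty_equiv k (ychart G) (iSup_ychart G)
    (fun s hs => isAffineOpen_biInf_ychart G s hs) (Coh.structureModule (Y G))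
    (Groth.Agent.PerfA.QCohSerre.isQCoh_unit _) p
  exact ⟨e.trans e'⟩

theorem subsingleton_HH (ha : ∀ j, 1 ≤ a j)
    (hht : (d : ℕ∞) ≤ (Ideal.span (Set.range fun j => (G j).1)).height) (i : ℕ) (hi : 0 < i)
    (hiN : i + d < N) : Subsingleton (Coh.HH (Y G) (Coh.structureModule (Y G)) i) := by
  let _ : (Y G).Over (Spec (CommRingCat.of k)) := ⟨yStr G⟩
  obtain ⟨e⟩ := nonempty_equiv_Oc G rfl i
  have h1 : Subsingleton (H (Oc (Gp G) a d 0) i) :=
    Groth.Agent.Lefpen.H728.OcSys.subsingleton_mid (Gp G) a ha (fun j => (G j).2) hht d le_rfl 0 i hi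
      (by rw [Fintype.card_fin]; omega)
  exact e.symm.toEquiv.subsingleton

/-- `H^i(Y, O_Y) = 0` for `0 < i < n`, `Y` a smooth complete intersection of dimension `n`. -/
theorem subsingleton_HH_of_smooth {n : ℕ} (hN : N = n + d) (ha : ∀ j, 1 ≤ a j)
    [SmoothOfRelativeDimension n (yStr G)] (i : ℕ) (hi : 0 < i) (hin : i < n) :
    Subsingleton (Coh.HH (Y G) (Coh.structureModule (Y G)) i) :=
  subsingleton_HH G ha (Groth.Agent.Lefpen.H718.JacCI.le_height_ci G hN) i hi (by omega)

end Groth.Agent.Lefpen.H608.CIH1
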