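import Groth.Agent.Lefpen.H716.CIGeom
import Groth.Agent.Lefpen.H718.Chart
import Groth.Agent.CalgC.DimFT
import Mathlib.AlgebraicGeometry.Morphisms.QuasiFinite
import Mathlib.RingTheory.MvPolynomial.Ideal

/-!
# Intersections of few hypersurfaces of positive degree in `P^N_k`

`G_1, …, G_d` forms of positive degrees in `N + 1` variables over an arbitrary field `k`,
`Y = (LefPen.ciIdeal G).subscheme`.

* `nonempty_Y`: `Y` is nonempty if `d ≤ N`.
* `not_isFinite`: `Y` is not finite over `k` if `d < N`.
-/

set_option autoImplicit false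
universe u

open CategoryTheory AlgebraicGeometry Limits TopologicalSpace Opposite

namespace Groth.Agent.Lefpen.H608.NotFinite

open LefPen Groth.Agent.Lefpen.H716.CIGeom Groth.Agent.Lefpen.H718.Chart Groth.Agent.Sga5

variable {N d : ℕ} {k : Type u} [Field k] {a : Fin d → ℕ} (G : ∀ j : Fin d, Form N k (a j))

open MvPolynomial in
/-- The height of the ideal of the origin. -/
theorem height_ker_constantCoeff (n : ℕ) :
    (RingHom.ker (constantCoeff : MvPolynomial (Fin n) k →+* k)).height = n := by
  have : (RingHom.ker (constantCoeff : MvPolynomial (Fin n) k →+* k)).IsMaximal :=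
    RingHom.ker_isMaximal_of_surjective _ fun a => ⟨C a, constantCoeff_C _ a⟩
  exact Groth.Agent.CalgC.DimFT.height_mvPolynomial_isMaximal n _

open MvPolynomial in
theorem exists_forall_notMem_Dplus (hd : d ≤ N) (ha : ∀ j, 0 < a j) :
    ∃ x : CohB1.ProjSpace N k, ∀ j, x ∉ Dplus (G j) := by
  by_contra hcon
  push Not at hcon
  set J : Ideal (MvPolynomial (Fin (N + 1)) k) := Ideal.span (Set.range fun j => (G j).1) with hJ
  have hJh : J.IsHomogeneous (CohB1.polyGrading N k) := by
    refine Ideal.homogeneous_span _ _ ?_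
    rintro _ ⟨j, rfl⟩
    exact ⟨a j, (G j).2⟩
  let m : Ideal (MvPolynomial (Fin (N + 1)) k) := RingHom.ker constantCoeff
  have hm : m.IsMaximal :=
    RingHom.ker_isMaximal_of_surjective _ fun a => ⟨C a, constantCoeff_C _ a⟩
  have hX : ∀ i, X i ∈ J.radical := by
    intro i
    rw [hJh.radical_eq, Submodule.mem_sInf]
    rintro P ⟨hPh, hJP, hPp⟩
    by_contra hi
    have hirr : ¬ HomogeneousIdeal.irrelevant (CohB1.polyGrading N k) ≤ ⟨P, hPh⟩ := by
      intro h
      apply hi
      have h1 : X i ∈ HomogeneousIdeal.irrelevant (CohB1.polyGrading N k) := by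
        have h2 : (X i : MvPolynomial (Fin (N + 1)) k) ∈ CohB1.polyGrading N k 1 := X_mem N k i
        exact HomogeneousIdeal.mem_irrelevant_of_mem (CohB1.polyGrading N k) Nat.one_pos h2
      exact h h1
    obtain ⟨j, hj⟩ := hcon ⟨⟨P, hPh⟩, hPp, hirr⟩
    exact hj (hJP (Ideal.subset_span ⟨j, rfl⟩))
  have hJm : J ≤ m := by
    refine Ideal.span_le.mpr ?_
    rintro _ ⟨j, rfl⟩
    change constantCoeff (G j).1 = 0
    rw [constantCoeff_eq]
    by_contra h
    have h1 : ((G j).1 : MvPolynomial (Fin (N + 1)) k).IsHomogeneous (a j) := (G j).2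
    have h2 := h1 h
    have h3 := ha j
    simp at h2
    omega
  have hmin : m ∈ J.minimalPrimes := by
    refine ⟨⟨hm.isPrime, hJm⟩, ?_⟩
    rintro P ⟨hPp, hJP⟩ -
    have hrad : J.radical ≤ P := hPp.radical_le_iff.mpr hJP
    intro f hf
    have hf' : f ∈ Ideal.span (Set.range (X : Fin (N + 1) → MvPolynomial (Fin (N + 1)) k)) := by
      have h1 : constantCoeff f = 0 := hf
      have h2 : f ∈ idealOfVars (Fin (N + 1)) k ^ 1 := by
        rw [mem_pow_idealOfVars_iff']
        intro x hx
        have hx0 : x = 0 := by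
          rw [← Finsupp.degree_eq_zero_iff]
          omega
        rw [hx0, ← constantCoeff_eq, h1]
      rw [pow_one] at h2
      exact h2
    refine (Ideal.span_le.mpr ?_ : Ideal.span (Set.range X) ≤ P) hf'
    rintro _ ⟨i, rfl⟩
    exact hrad (hX i)
  have h1 := Ideal.height_le_card_of_mem_minimalPrimes_span (Set.finite_range fun j => (G j).1) hmin
  have h2 : (Set.range fun j => (G j).1).ncard ≤ d := by
    have := Set.ncard_image_le (s := Set.univ) (f := fun j => (G j).1) (Set.finite_univ (α := Fin d))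
    rw [Set.image_univ] at this
    simpa using this
  have h3 : m.height = ((N + 1 : ℕ) : ℕ∞) := height_ker_constantCoeff (N + 1)
  rw [h3] at h1
  have h4 : N + 1 ≤ (Set.range fun j => (G j).1).ncard := by exact_mod_cast h1
  omega

theorem nonempty_Y (hd : d ≤ N) (ha : ∀ j, 0 < a j) : Nonempty (Y G) := by
  obtain ⟨x, hx⟩ := exists_forall_notMem_Dplus G hd ha
  have h1 : x ∈ ((ciIdeal G).support : Set (CohB1.ProjSpace N k)) := (mem_support_ciIdeal_iff G x).mpr hx
  rw [← Scheme.IdealSheafData.range_subschemeι] at h1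
  exact ⟨h1.choose⟩

theorem exists_nonempty_chart (hd : d ≤ N) (ha : ∀ j, 0 < a j) : ∃ j, Nonempty (ychart G j) := by
  obtain ⟨y⟩ := nonempty_Y G hd ha
  obtain ⟨j, hj⟩ := exists_affine_nhd ((yι G).base y)
  exact ⟨j, ⟨y, hj⟩⟩

/-- `Y` is not finite over `k`. -/
theorem not_isFinite (hd : d < N) (ha : ∀ j, 0 < a j) : ¬ IsFinite (yStr G) := by
  intro hfin
  obtain ⟨j, hj⟩ := exists_nonempty_chart G hd.le ha
  have hlqf : LocallyQuasiFinite (yStr G) := inferInstance
  have h1 : ((yStr G).appLE ⊤ (ychart G j) le_top).hom.QuasiFinite :=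
    HasRingHomProperty.appLE (P := @LocallyQuasiFinite) (yStr G) inferInstance
      ⟨⊤, isAffineOpen_top _⟩ ⟨ychart G j, isAffineOpen_ychart G j⟩ le_top
  have h2 : (strMap G j).QuasiFinite := by
    have h2 : strMap G j = ((yStr G).appLE ⊤ (ychart G j) le_top).hom.comp
        (Scheme.ΓSpecIso (CommRingCat.of k)).commRingCatIsoToRingEquiv.symm.toRingHom := by
      ext c
      exact (yStr_appLE G j c).symm
    rw [h2]
    exact RingHom.QuasiFinite.respectsIso.2 _ _ h1
  algebraize [strMap G j]
  have h3 : Module.Finite k Γ(Y G, ychart G j) := Module.Finite.of_quasiFinite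
  have h4 : IsArtinianRing Γ(Y G, ychart G j) := IsArtinianRing.of_finite k _
  have hnt : Nontrivial Γ(Y G, ychart G j) := by
    have : Nonempty (ychart G j : Scheme.{u}) := hj
    infer_instance
  set I : Ideal (MvPolynomial (Fin N) k) := Ideal.span (Set.range fun i => ProjChart.dehom N k j (G i).1) with hI
  have hI1 : I ≠ ⊤ := by
    rw [hI, ← ker_toY G j]
    exact RingHom.ker_ne_top _
  obtain ⟨P, hP⟩ := Ideal.nonempty_minimalPrimes hI1
  have hPp : P.IsPrime := hP.1.1
  have hker : RingHom.ker (toY G j) ≤ P := by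
    rw [ker_toY G j]
    exact hP.1.2
  have h5 : (P.map (toY G j)).IsPrime := Ideal.map_isPrime_of_surjective (toY_surjective G j) hker
  have h6 : (P.map (toY G j)).IsMaximal := inferInstance
  have h7 : ((P.map (toY G j)).comap (toY G j)).IsMaximal := Ideal.comap_isMaximal_of_surjective _ (toY_surjective G j)
  have h8 : (P.map (toY G j)).comap (toY G j) = P := by
    rw [Ideal.comap_map_of_surjective _ (toY_surjective G j)]
    exact sup_eq_left.mpr hker
  rw [h8] at h7
  have h9 : P.height = N := Groth.Agent.CalgC.DimFT.height_mvPolynomial_isMaximal N P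
  have h10 := Ideal.height_le_card_of_mem_minimalPrimes_span (Set.finite_range fun i => ProjChart.dehom N k j (G i).1) hP
  have h11 : (Set.range fun i => ProjChart.dehom N k j (G i).1).ncard ≤ d := by
    have := Set.ncard_image_le (s := Set.univ) (f := fun i => ProjChart.dehom N k j (G i).1)
      (Set.finite_univ (α := Fin d))
    rw [Set.image_univ] at this
    simpa using this
  rw [h9] at h10
  have h12 : N ≤ (Set.range fun i => ProjChart.dehom N k j (G i).1).ncard := by exact_mod_cast h10
  omega

end Groth.Agent.Lefpen.H608.NotFinite
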